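import Cfsg.Agent.Characters.RepBasic
import Mathlib.FieldTheory.IsAlgClosed.Classification
import Mathlib.NumberTheory.Cyclotomic.Gal
import Mathlib.RingTheory.Polynomial.Cyclotomic.Roots
import Mathlib.Analysis.Complex.Polynomial.Basic

/-!
# Galois conjugates of characters

* `exists_ringEquiv_pow`: for `k` prime to `n` some field automorphism of `ℂ` sends every `n`-th
  root of unity to its `k`-th power.
* `conjRep σ ρ`: a matrix representation with a field automorphism applied to its entries.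
* `isIrrCharacter_pow`: `g ↦ χ (g ^ k)` is irreducible when `k` is prime to the group order.
-/

set_option autoImplicit false
set_option linter.style.haveILetI false

namespace CfsgLib.GaloisConj

open scoped Cardinal

/-- For `k` prime to `n`, some field automorphism of `ℂ` raises every `n`-th root of unity to
the `k`-th power. -/
theorem exists_ringEquiv_pow (n k : ℕ) [NeZero n] (hk : Nat.Coprime k n) :
    ∃ σ : ℂ ≃+* ℂ, ∀ w : ℂ, w ^ n = 1 → σ w = w ^ k := by
  let R := CyclotomicField n ℚ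
  haveI : IsCyclotomicExtension {n} ℚ R := CyclotomicField.isCyclotomicExtension n ℚ
  let i : R →ₐ[ℚ] ℂ := IsAlgClosed.lift
  letI : Algebra R ℂ := i.toRingHom.toAlgebra
  have hirr := Polynomial.cyclotomic.irreducible_rat (NeZero.pos n)
  have hζ : IsPrimitiveRoot (IsCyclotomicExtension.zeta n ℚ R) n :=
    IsCyclotomicExtension.zeta_spec n ℚ R
  let s : R ≃ₐ[ℚ] R := (IsCyclotomicExtension.autEquivPow R hirr).symm (ZMod.unitOfCoprime k hk)
  have hs : s (IsCyclotomicExtension.zeta n ℚ R) = IsCyclotomicExtension.zeta n ℚ R ^ k := by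
    have h := (hζ.autToPow_spec ℚ s).symm
    have hu : hζ.autToPow ℚ s = ZMod.unitOfCoprime k hk :=
      (IsCyclotomicExtension.autEquivPow R hirr).apply_symm_apply _
    rw [h, hu, ZMod.coe_unitOfCoprime, ZMod.val_natCast, pow_eq_pow_mod k hζ.pow_eq_one]
  obtain ⟨v, hv⟩ := exists_isTranscendenceBasis R ℂ
  letI := IsAlgClosed.isAlgClosure_of_transcendence_basis (R := R) (K := ℂ) _ hv
  let e : Algebra.adjoin R (Set.range (Subtype.val : v → ℂ)) ≃+*
      Algebra.adjoin R (Set.range (Subtype.val : v → ℂ)) :=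
    hv.1.aevalEquiv.symm.toRingEquiv.trans
      ((MvPolynomial.mapEquiv v s.toRingEquiv).trans hv.1.aevalEquiv.toRingEquiv)
  let σ : ℂ ≃+* ℂ := IsAlgClosure.equivOfEquiv ℂ ℂ e
  have hσ : ∀ r : R, σ (i r) = i (s r) := by
    intro r
    have h1 : e (algebraMap R _ r) = algebraMap R _ (s r) := by
      simp [e, MvPolynomial.algebraMap_eq, MvPolynomial.mapEquiv_apply]
      rw [← MvPolynomial.algebraMap_eq, AlgEquiv.commutes]
    have h2 := IsAlgClosure.equivOfEquiv_algebraMap ℂ ℂ e (algebraMap R _ r)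
    rw [h1] at h2
    exact h2
  refine ⟨σ, fun w hw => ?_⟩
  have hiζ : IsPrimitiveRoot (i (IsCyclotomicExtension.zeta n ℚ R)) n :=
    hζ.map_of_injective i.injective
  obtain ⟨j, -, rfl⟩ := hiζ.eq_pow_of_pow_eq_one hw
  rw [map_pow, hσ, hs, map_pow, ← pow_mul, ← pow_mul, mul_comm]

universe u
variable {G : Type u} [Group G] {n : ℕ}

/-- Apply a field automorphism to the matrix entries of a representation. -/
noncomputable def conjRep (σ : ℂ ≃+* ℂ) (ρ : Representation ℂ G (Fin n → ℂ)) :
    Representation ℂ G (Fin n → ℂ) where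
  toFun g := Matrix.toLin' ((LinearMap.toMatrix' (ρ g)).map σ)
  map_one' := by
    rw [map_one, show LinearMap.toMatrix' (1 : Module.End ℂ (Fin n → ℂ)) = 1 from
      LinearMap.toMatrix'_id, Matrix.map_one σ (map_zero σ) (map_one σ), Matrix.toLin'_one]
    rfl
  map_mul' g h := by
    rw [map_mul, LinearMap.toMatrix'_mul, Matrix.map_mul, Matrix.toLin'_mul]
    rfl

theorem conjRep_apply (σ : ℂ ≃+* ℂ) (ρ : Representation ℂ G (Fin n → ℂ)) (g : G)
    (x : Fin n → ℂ) : conjRep σ ρ g (fun i => σ (x i)) = fun i => σ (ρ g x i) := by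
  funext i
  have h : ρ g x = (LinearMap.toMatrix' (ρ g)).mulVec x := by
    rw [← Matrix.toLin'_apply, Matrix.toLin'_toMatrix']
  rw [h]
  simp [conjRep, Matrix.toLin'_apply, Matrix.mulVec, dotProduct, map_sum, map_mul, -LinearMap.toMatrix'_apply]

theorem character_conjRep (σ : ℂ ≃+* ℂ) (ρ : Representation ℂ G (Fin n → ℂ)) (g : G) :
    (conjRep σ ρ).character g = σ (ρ.character g) := by
  simp only [Representation.character, LinearMap.trace_eq_matrix_trace ℂ (Pi.basisFun ℂ (Fin n)),
    LinearMap.toMatrix_eq_toMatrix']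
  simp [conjRep, Matrix.trace, map_sum]

theorem isIrreducible_conjRep (σ : ℂ ≃+* ℂ) (ρ : Representation ℂ G (Fin n → ℂ))
    [ρ.IsIrreducible] : (conjRep σ ρ).IsIrreducible := by
  haveI := CfsgLib.Characters.nontrivial_of_isIrreducible ρ
  refine CfsgLib.Characters.isIrreducible_of_forall _ fun U hU => ?_
  let U' : Submodule ℂ (Fin n → ℂ) :=
    { carrier := {x | (fun i => σ (x i)) ∈ U}
      add_mem' := fun {x y} hx hy => by
        have := U.add_mem hx hy
        simpa [Pi.add_def] using this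
      zero_mem' := by simp [← Pi.zero_def]
      smul_mem' := fun c x hx => by
        have := U.smul_mem (σ c) hx
        simpa [Pi.smul_def] using this }
  have hU' : ∀ g x, x ∈ U' → ρ g x ∈ U' := fun g x hx => by
    have := hU g _ hx
    rwa [conjRep_apply] at this
  have key : ∀ y : Fin n → ℂ, y ∈ U ↔ (fun i => σ.symm (y i)) ∈ U' := fun y => by
    simp [U']
  rcases IsSimpleOrder.eq_bot_or_eq_top
      (⟨U', fun g x hx => hU' g x hx⟩ : Subrepresentation ρ) with h | h
  · refine Or.inl (eq_bot_iff.2 fun y hy => ?_)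
    have h' : U' = ⊥ := congrArg Subrepresentation.toSubmodule h
    have := (key y).1 hy
    rw [h', Submodule.mem_bot] at this
    rw [Submodule.mem_bot]
    funext i
    exact (map_eq_zero σ.symm).1 (congrFun this i)
  · refine Or.inr (eq_top_iff.2 fun y _ => ?_)
    have h' : U' = ⊤ := congrArg Subrepresentation.toSubmodule h
    exact (key y).2 (h' ▸ Submodule.mem_top)

/-- A field automorphism carries irreducible characters to irreducible characters. -/
theorem isIrrCharacter_comp (σ : ℂ ≃+* ℂ) {χ : G → ℂ} (h : Cfsg.IsIrrCharacter G χ) :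
    Cfsg.IsIrrCharacter G (fun g => σ (χ g)) := by
  obtain ⟨m, ρ, hρ, rfl⟩ := h
  exact ⟨m, conjRep σ ρ, isIrreducible_conjRep σ ρ, funext (character_conjRep σ ρ)⟩

/-- A field automorphism carries characters to characters. -/
theorem isCharacter_comp_aut (σ : ℂ ≃+* ℂ) {χ : G → ℂ} (h : Cfsg.IsCharacter G χ) :
    Cfsg.IsCharacter G (fun g => σ (χ g)) := by
  obtain ⟨m, ρ, rfl⟩ := h
  exact ⟨m, conjRep σ ρ, funext (character_conjRep σ ρ)⟩

/-- An automorphism raising the `#G`-th roots of unity to the `k`-th power sends `χ g` to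
`χ (g ^ k)`. -/
theorem map_character_eq_pow [Finite G] {σ : ℂ ≃+* ℂ} {k : ℕ}
    (hσ : ∀ w : ℂ, w ^ Nat.card G = 1 → σ w = w ^ k) {χ : G → ℂ} (h : Cfsg.IsCharacter G χ)
    (g : G) : σ (χ g) = χ (g ^ k) := by
  obtain ⟨m, ρ, rfl⟩ := h
  obtain ⟨μ, hμ, hj, -⟩ := CfsgLib.Characters.exists_eigenvalues ρ g
  have h1 := hj 1
  rw [pow_one] at h1
  rw [h1, hj k, map_sum]
  refine Finset.sum_congr rfl fun i _ => ?_
  rw [pow_one]
  refine hσ _ ?_
  obtain ⟨c, hc⟩ := orderOf_dvd_natCard g
  rw [hc, pow_mul, hμ i, one_pow]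

/-- `g ↦ χ (g ^ k)` is irreducible for `k` prime to the group order. -/
theorem isIrrCharacter_pow [Finite G] {χ : G → ℂ} (h : Cfsg.IsIrrCharacter G χ) {k : ℕ}
    (hk : Nat.Coprime k (Nat.card G)) : Cfsg.IsIrrCharacter G (fun g => χ (g ^ k)) := by
  haveI : NeZero (Nat.card G) := ⟨Nat.card_pos.ne'⟩
  obtain ⟨σ, hσ⟩ := exists_ringEquiv_pow (Nat.card G) k hk
  have he : (fun g => χ (g ^ k)) = fun g => σ (χ g) :=
    funext fun g => (map_character_eq_pow hσ (CfsgLib.Characters.isCharacter_of_isIrr h) g).symm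
  rw [he]
  exact isIrrCharacter_comp σ h

end CfsgLib.GaloisConj
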